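/-
Packed matrices of degree 112 over the field of two elements and walks in a matrix group.
-/
import Cfsg.Agent.J4o.Cls

set_option autoImplicit false
set_option maxRecDepth 100000
set_option linter.unusedSectionVars false

namespace CA.J4x

open CA.M24 CA.Fi CA.FG CA.J4o Cfsg Subgroup

noncomputable section

def ONES : ℕ := nat_lit 0x100000000000000000000000000010000000000000000000000000001000000000000000000000000000100000000000000000000000000010000000000000000000000000001000000000000000000000000000100000000000000000000000000010000000000000000000000000001000000000000000000000000000100000000000000000000000000010000000000000000000000000001000000000000000000000000000100000000000000000000000000010000000000000000000000000001000000000000000000000000000100000000000000000000000000010000000000000000000000000001000000000000000000000000000100000000000000000000000000010000000000000000000000000001000000000000000000000000000100000000000000000000000000010000000000000000000000000001000000000000000000000000000100000000000000000000000000010000000000000000000000000001000000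000000000000000000000100000000000000000000000000010000000000000000000000000001000000000000000000000000000100000000000000000000000000010000000000000000000000000001000000000000000000000000000100000000000000000000000000010000000000000000000000000001000000000000000000000000000100000000000000000000000000010000000000000000000000000001000000000000000000000000000100000000000000000000000000010000000000000000000000000001000000000000000000000000000100000000000000000000000000010000000000000000000000000001000000000000000000000000000100000000000000000000000000010000000000000000000000000001000000000000000000000000000100000000000000000000000000010000000000000000000000000001000000000000000000000000000100000000000000000000000000010000000000000000000000000001000000000000000000000000000100000000000000000000000000010000000000000000000000000001000000000000000000000000000100000000000000000000000000010000000000000000000000000001000000000000000000000000000100000000000000000000000000010000000000000000000000000001000000000000000000000000000100000000000000000000000000010000000000000000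0000000000010000000000000000000000000001000000000000000000000000000100000000000000000000000000010000000000000000000000000001000000000000000000000000000100000000000000000000000000010000000000000000000000000001000000000000000000000000000100000000000000000000000000010000000000000000000000000001000000000000000000000000000100000000000000000000000000010000000000000000000000000001000000000000000000000000000100000000000000000000000000010000000000000000000000000001000000000000000000000000000100000000000000000000000000010000000000000000000000000001000000000000000000000000000100000000000000000000000000010000000000000000000000000001000000000000000000000000000100000000000000000000000000010000000000000000000000000001000000000000000000000000000100000000000000000000000000010000000000000000000000000001000000000000000000000000000100000000000000000000000000010000000000000000000000000001000000000000000000000000000100000000000000000000000000010000000000000000000000000001000000000000000000000000000100000000000000000000000000010000000000000000000000000001000000000000000000000000000100000000000000000000000000010000000000000000000000000001000000000000000000000000000100000000000000000000000000010000000000000000000000000001000000000000000000000000000100000000000000000000000000010000000000000000000000000001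
def II : ℕ := nat_lit 0x80000000000000000000000000004000000000000000000000000000200000000000000000000000000010000000000000000000000000000800000000000000000000000000040000000000000000000000000002000000000000000000000000000100000000000000000000000000008000000000000000000000000000400000000000000000000000000020000000000000000000000000001000000000000000000000000000080000000000000000000000000004000000000000000000000000000200000000000000000000000000010000000000000000000000000000800000000000000000000000000040000000000000000000000000002000000000000000000000000000100000000000000000000000000008000000000000000000000000000400000000000000000000000000020000000000000000000000000001000000000000000000000000000080000000000000000000000000004000000000000000000000000000200000000000000000000000000010000000000000000000000000000800000000000000000000000000040000000000000000000000000002000000000000000000000000000100000000000000000000000000008000000000000000000000000000400000000000000000000000000020000000000000000000000000001000000000000000000000000000080000000000000000000000000004000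000000000000000000000000200000000000000000000000000010000000000000000000000000000800000000000000000000000000040000000000000000000000000002000000000000000000000000000100000000000000000000000000008000000000000000000000000000400000000000000000000000000020000000000000000000000000001000000000000000000000000000080000000000000000000000000004000000000000000000000000000200000000000000000000000000010000000000000000000000000000800000000000000000000000000040000000000000000000000000002000000000000000000000000000100000000000000000000000000008000000000000000000000000000400000000000000000000000000020000000000000000000000000001000000000000000000000000000080000000000000000000000000004000000000000000000000000000200000000000000000000000000010000000000000000000000000000800000000000000000000000000040000000000000000000000000002000000000000000000000000000100000000000000000000000000008000000000000000000000000000400000000000000000000000000020000000000000000000000000001000000000000000000000000000080000000000000000000000000004000000000000000000000000000200000000000000000000000000010000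00000000000000000000000080000000000000000000000000004000000000000000000000000000200000000000000000000000000010000000000000000000000000000800000000000000000000000000040000000000000000000000000002000000000000000000000000000100000000000000000000000000008000000000000000000000000000400000000000000000000000000020000000000000000000000000001000000000000000000000000000080000000000000000000000000004000000000000000000000000000200000000000000000000000000010000000000000000000000000000800000000000000000000000000040000000000000000000000000002000000000000000000000000000100000000000000000000000000008000000000000000000000000000400000000000000000000000000020000000000000000000000000001000000000000000000000000000080000000000000000000000000004000000000000000000000000000200000000000000000000000000010000000000000000000000000000800000000000000000000000000040000000000000000000000000002000000000000000000000000000100000000000000000000000000008000000000000000000000000000400000000000000000000000000020000000000000000000000000001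

/-- the first column -/
def c0 (A : ℕ) : ℕ := Nat.land A (nat_lit 5192296858534827628530496329220095)

def mk (A B k : ℕ) : ℕ := Nat.rec (motive := fun _ => ℕ) (nat_lit 0) (fun i a => Nat.xor a
  (Nat.mul (Nat.land (Nat.shiftRight B i) ONES) (c0 (Nat.shiftRight A (Nat.mul (nat_lit 112) i))))) k

/-- the product of packed matrices -/
def mx (A B : ℕ) : ℕ := mk A B (nat_lit 112)

abbrev M112 : Type := Matrix (Fin 112) (Fin 112) (ZMod 2)

def bz (b : Bool) : ZMod 2 := if b = true then 1 else 0

def toM (A : ℕ) : M112 := fun r c => bz (A.testBit (112 * c + r))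

def ones : ℕ → ℕ
  | 0 => 0
  | n + 1 => 2 ^ 112 * ones n + 1

theorem c0_bit (A r : ℕ) : (c0 A).testBit r = (decide (r < 112) && A.testBit r) := by
  show (A &&& (2 ^ 112 - 1)).testBit r = _
  rw [Nat.testBit_and, Nat.testBit_two_pow_sub_one, Bool.and_comm]

theorem c0_lt (A : ℕ) : c0 A < 2 ^ 112 := Nat.lt_pow_two_of_testBit _ fun i h => by
  rw [c0_bit, decide_eq_false (not_lt.2 h), Bool.false_and]

theorem slot {a r : ℕ} (ha : a < 2 ^ 112) (hr : r < 112) : ∀ n B c : ℕ,
    ((B &&& ones n) * a).testBit (112 * c + r) = (decide (c < n) && (B.testBit (112 * c) && a.testBit r))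
  | 0, B, c => by simp [ones]
  | n + 1, B, c => by
    have e : B &&& ones (n + 1) = 2 ^ 112 * ((B >>> 112) &&& ones n) + B % 2 := Nat.eq_of_testBit_eq fun i => by
      rw [ones, Nat.testBit_and, Nat.testBit_two_pow_mul_add _ (by norm_num),
        Nat.testBit_two_pow_mul_add _ ((Nat.mod_lt B two_pos).trans (by norm_num))]
      split_ifs with h
      · rw [← Nat.and_one_is_mod, Nat.testBit_and]
      · rw [Nat.testBit_and, Nat.testBit_shiftRight, Nat.add_sub_cancel' (not_lt.1 h)]
    have l : B % 2 * a < 2 ^ 112 := by
      rcases Nat.mod_two_eq_zero_or_one B with h | h <;> rw [h]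
      · rw [zero_mul]; positivity
      · rwa [one_mul]
    rw [e, add_mul, mul_assoc, Nat.testBit_two_pow_mul_add _ l]
    cases c with
    | zero =>
      rw [if_pos (by omega)]
      rcases Nat.mod_two_eq_zero_or_one B with h | h <;> simp [h, Nat.testBit_zero]
    | succ c =>
      rw [if_neg (by omega), show 112 * (c + 1) + r - 112 = 112 * c + r by omega, slot ha hr n, Nat.testBit_shiftRight,
        show 112 + 112 * c = 112 * (c + 1) by omega]
      simp

theorem bz_xor (a b : Bool) : bz (a ^^ b) = bz a + bz b := by cases a <;> cases b <;> rfl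

theorem bz_and (a b : Bool) : bz (a && b) = bz a * bz b := by cases a <;> cases b <;> rfl

theorem bz_inj {a b : Bool} (h : bz a = bz b) : a = b := by
  revert h; cases a <;> cases b <;> decide

theorem mk_bit (A B : ℕ) {r c : ℕ} (hr : r < 112) (hc : c < 112) (k : ℕ) : bz ((mk A B k).testBit (112 * c + r)) =
    ∑ i ∈ Finset.range k, bz (A.testBit (112 * i + r)) * bz (B.testBit (112 * c + i)) := by
  induction k with
  | zero => simp [mk, bz]
  | succ k ih =>
    show bz ((mk A B k ^^^ ((B >>> k) &&& ONES) * c0 (A >>> (112 * k))).testBit _) = _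
    rw [Nat.testBit_xor, bz_xor, ih, Finset.sum_range_succ, (by decide +kernel : ONES = ones 112), slot (c0_lt _) hr, c0_bit,
      Nat.testBit_shiftRight, Nat.testBit_shiftRight, decide_eq_true hc, decide_eq_true hr, Bool.true_and, Bool.true_and,
      bz_and, mul_comm (bz (B.testBit _)), add_comm k]

theorem toM_mx (A B : ℕ) : toM (mx A B) = toM A * toM B := by
  ext r c
  rw [Matrix.mul_apply]
  exact (mk_bit A B r.2 c.2 112).trans (Fin.sum_univ_eq_sum_range
    (fun i => bz (A.testBit (112 * i + r)) * bz (B.testBit (112 * c + i))) 112).symm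

theorem toM_II : toM II = 1 := by
  ext r c
  have := allR_eq_true.1 (allR_eq_true.1 (by decide +kernel : allR (fun c => allR (fun r =>
    bif' (tb II (Nat.add (Nat.mul 112 c) r)) (Nat.beq r c) (bne' r c)) 112) 112 = true) c c.2) r r.2
  rw [bif'_eq] at this
  rw [Matrix.one_apply, toM, bz]
  refine if_congr ?_ rfl rfl
  rw [← tb_eq_true, Fin.ext_iff]
  split_ifs at this with h
  · exact iff_of_true h (beq_iff.1 this)
  · exact iff_of_false h (bne'_eq_true.1 this)

theorem c0_eq {A B : ℕ} (h : toM A = toM B) : c0 A = c0 B := Nat.eq_of_testBit_eq fun i => by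
  rw [c0_bit, c0_bit]
  by_cases e : i < 112
  · simpa using congrArg (decide (i < 112) && ·) (bz_inj (congrFun (congrFun h ⟨i, e⟩) 0))
  · simp [e]

def pwS (W n : ℕ) : ℕ := Nat.rec (motive := fun _ => ℕ) II (fun _ a => force a (mx W)) n

/-- binary powering -/
def pwL (W : ℕ) (l : List ℕ) : ℕ := List.rec (motive := fun _ => ℕ) W
  (fun b _ a => force a fun c => force (mx c c) fun d => bif' (Nat.beq b (nat_lit 0)) d (mx W d)) l

def ex : List ℕ → ℕ
  | [] => 1
  | b :: l => 2 * ex l + if b = 0 then 0 else 1

def ordT (l : List ℕ) (W : ℕ) : Bool := band (bne' (c0 W) (nat_lit 1)) (Nat.beq (pwL W l) W)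

/-- straight-line programs -/
def slp (k : List ℕ → Bool) (l : List (ℕ × ℕ)) : List ℕ → Bool := List.rec (motive := fun _ => List ℕ → Bool) k
  (fun a _ ih R => force (getL R II a.1) fun x => force (getL R II a.2) fun y => force (mx x y) fun c => ih (c :: R)) l

def outs (o : List (ℕ × ℕ)) (R : List ℕ) : Bool := allL (fun a => Nat.beq (getL R II a.1) a.2) o

def wd (st : ℕ → ℕ → ℕ) (w : List ℕ) (S : ℕ) : ℕ :=
  List.rec (motive := fun _ => ℕ) S (fun i _ a => force a (st i)) w

def walk (st : ℕ → ℕ → ℕ) (ok : ℕ → ℕ → Bool) (fin : ℕ) (l : List (List ℕ × ℕ)) : ℕ → Bool :=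
  List.rec (motive := fun _ => ℕ → Bool) (fun S => Nat.beq S fin)
    (fun a _ ih S => force (wd st a.1 S) fun S' => force a.2 fun h => band (ok S' h) (ih S')) l

theorem walk_spec {st : ℕ → ℕ → ℕ} {ok : ℕ → ℕ → Bool} {P : ℕ → Prop} (hP : ∀ i S, P S → P (st i S)) {fin : ℕ} :
    ∀ {l : List (List ℕ × ℕ)} {S : ℕ}, walk st ok fin l S = true → P S → P fin ∧ ∀ a ∈ l, ∃ S, P S ∧ ok S a.2 = true
  | [], S, h, p => ⟨beq_iff.1 h ▸ p, by simp⟩
  | a :: l, S, h, p => by
    have h' : (force (wd st a.1 S) fun S' => force a.2 fun h => band (ok S' h) (walk st ok fin l S')) = true := h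
    rw [force_eq, force_eq, band_eq_true] at h'
    have q : P (wd st a.1 S) := by
      induction a.1 with
      | nil => exact p
      | cons i w ih => exact (congrArg P (force_eq (wd st w S) (st i))).mpr (hP i _ ih)
    obtain ⟨b, c⟩ := walk_spec hP h'.2 q
    exact ⟨b, List.forall_mem_cons.2 ⟨⟨_, q, h'.1⟩, c⟩⟩

/-- distinctness through a mask -/
def ndM (l : List ℕ) : ℕ → Bool := List.rec (motive := fun _ => ℕ → Bool) (fun _ => true)
  (fun a _ ih m => force a fun b => band (bnot (tb m b)) (force (Nat.lor m (Nat.pow 2 b)) ih)) l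

theorem ndM_spec : ∀ {l : List ℕ} {m : ℕ}, ndM l m = true → l.Nodup ∧ ∀ a ∈ l, ¬ m.testBit a = true
  | [], _, _ => by simp
  | a :: l, m, h => by
    have h' : (force a fun b => band (bnot (tb m b)) (force (Nat.lor m (Nat.pow 2 b)) (ndM l))) = true := h
    rw [force_eq, force_eq, band_eq_true, bnot_eq_true, tb_eq_true] at h'
    obtain ⟨b, c⟩ := ndM_spec h'.2
    have d : ∀ x ∈ l, ¬ m.testBit x = true ∧ x ≠ a := fun x hx => by
      have := c x hx
      change ¬ (m ||| 2 ^ a).testBit x = true at this
      rw [Nat.testBit_or, Bool.or_eq_true, not_or, Nat.testBit_two_pow] at this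
      exact ⟨this.1, fun e => this.2 (by simp [e])⟩
    exact ⟨List.nodup_cons.2 ⟨fun e => (d a e).2 rfl, b⟩, List.forall_mem_cons.2 ⟨h'.1, fun x hx => (d x hx).1⟩⟩

def tsts (T : List ℕ) (S : ℕ) (bs : List (List ℕ)) : ℕ → Bool := List.rec (motive := fun _ => ℕ → Bool) (fun _ => true)
  (fun b _ ih h => force (getL T II (Nat.land h 255)) fun x => force (getL T II (Nat.land (Nat.shiftRight h 8) 255)) fun y =>
    force (mx S x) fun z => force (mx S y) fun u => band (force (mx z u) (ordT b)) (ih (Nat.shiftRight h 16))) bs

theorem tsts_spec {T : List ℕ} {S : ℕ} : ∀ {bs : List (List ℕ)} {h : ℕ}, tsts T S bs h = true →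
    ∀ b ∈ bs, ∃ i j, ordT b (mx (mx S (getL T II i)) (mx S (getL T II j))) = true
  | [], _, _ => by simp
  | b :: bs, h, e => by
    have h' : (force (getL T II (Nat.land h 255)) fun x => force (getL T II (Nat.land (Nat.shiftRight h 8) 255)) fun y =>
      force (mx S x) fun z => force (mx S y) fun u => band (force (mx z u) (ordT b))
        (tsts T S bs (Nat.shiftRight h 16))) = true := e
    simp only [force_eq, band_eq_true] at h'
    exact List.forall_mem_cons.2 ⟨⟨_, _, h'.1⟩, tsts_spec h'.2⟩

/-- the check of a step -/
def okS (fp : ℕ → ℕ) (m : ℕ) (T : List ℕ) (bs : List (List ℕ)) (S h : ℕ) : Bool :=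
  band (Nat.beq (Nat.mod (c0 (fp S)) m) (Nat.land h 1048575)) (tsts T S bs (Nat.shiftRight h 20))

def keys (l : List (List ℕ × ℕ)) : List ℕ := l.map fun a => Nat.land a.2 1048575

variable {G : Type*} [Group G] [Finite G]

theorem cover {K Z : Subgroup G} (hZ : Z ≤ K) (F : G → M112) (hF : ∀ w, ∀ z ∈ Z, F (w * z) = F w) {P : G → Prop} {m : ℕ}
    {l : List ℕ} (nd : l.Nodup) (h : ∀ k ∈ l, ∃ w ∈ K, (∃ A, toM A = F w ∧ c0 A % m = k) ∧ P w) :
    l.length * Nat.card Z ≤ Nat.card K ∧ (Nat.card K ≤ l.length * Nat.card Z → ∀ a ∈ K, ∃ w, P w ∧ w⁻¹ * a ∈ Z) := by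
  have key : ∀ S : Set G, (∀ w ∈ K, P w → ∀ z ∈ Z, w * z ∈ S) → l.length * Nat.card Z ≤ S.ncard := fun S hS =>
    mul_le_ncard (fun a k => ∃ A, toM A = F a ∧ c0 A % m = k)
      (fun a k j ⟨A, b, c⟩ ⟨B, d, e⟩ => by rw [← c, ← e, c0_eq (b.trans d.symm)]) nd fun k hk => by
        obtain ⟨w, a, b, c⟩ := h k hk
        rw [← Nat.card_coe_set_eq]
        exact Nat.card_le_card_of_injective (fun z : Z => (⟨w * z, hS w a c z z.2, by rwa [hF w z z.2]⟩ :
          {a ∈ S | ∃ A, toM A = F a ∧ c0 A % m = k})) fun x y e => Subtype.ext (mul_left_cancel (congrArg Subtype.val e))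
  refine ⟨key K fun w a _ z b => K.mul_mem a (hZ b), fun e a ha => by_contra fun n => ?_⟩
  have := key ((K : Set G) \ {a}) fun w b c z d => ⟨K.mul_mem b (hZ d), fun f => n ⟨w, c, by
    rw [← show w * z = a from f]; simpa using d⟩⟩
  exact absurd (Set.ncard_diff_singleton_lt_of_mem ha) (not_lt.2 (e.trans this))

theorem mem_norm_zp {k s : G} {j : ℕ} (h : k * s = s ^ j * k) : k ∈ 𝒩(zpowers s) := mem_norm_of_forall fun x hx => by
  obtain ⟨n, rfl⟩ := mem_zpowers_iff.1 hx
  rw [← conj_zpow, mul_inv_eq_of_eq_mul h]
  exact zpow_mem (pow_mem (mem_zpowers s) j) n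

/-- a faithful representation -/
structure FR (G : Type*) [Group G] where
  ρ : G →* M112
  inj : Function.Injective ρ

namespace FR

variable {M : FR G} {g h : G} {A B : ℕ}

def R (M : FR G) (g : G) (A : ℕ) : Prop := M.ρ g = toM A

def In (M : FR G) (K : Subgroup G) (A : ℕ) : Prop := ∃ g ∈ K, M.R g A

theorem R.mul (a : M.R g A) (b : M.R h B) : M.R (g * h) (mx A B) := by rw [R, map_mul, a, b, toM_mx]

theorem one : M.R 1 II := M.ρ.map_one.trans toM_II.symm

theorem R.eq (a : M.R g A) (b : M.R h B) (e : A = B) : g = h := M.inj (a.trans (e ▸ b.symm))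

theorem R.ne (a : M.R g A) (e : c0 A ≠ 1) : g ≠ 1 := fun f =>
  e ((c0_eq (a.symm.trans (f ▸ one))).trans (by decide +kernel))

theorem R.pwS (a : M.R g A) : ∀ n, M.R (g ^ n) (pwS A n)
  | 0 => (pow_zero g).symm ▸ one
  | n + 1 => by
    rw [pow_succ']
    exact (congrArg (M.R _) (force_eq (J4x.pwS A n) (mx A))).mpr (a.mul (a.pwS n))

theorem R.pwL (a : M.R g A) : ∀ l, M.R (g ^ ex l) (pwL A l)
  | [] => (pow_one g).symm ▸ a
  | b :: l => by
    have := (a.pwL l).mul (a.pwL l)
    rw [← pow_add, ← two_mul] at this
    show M.R _ (force (J4x.pwL A l) fun c => force (mx c c) fun d => bif' (Nat.beq b 0) d (mx A d))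
    simp only [force_eq, bif'_eq, beq_iff, ex]
    split_ifs
    · exact this
    · rw [pow_succ']; exact a.mul this

theorem R.ord {p : ℕ} {l : List ℕ} (a : M.R g A) (hp : p.Prime) (e : ex l = p + 1) (h : ordT l A = true) : orderOf g = p := by
  rw [ordT, band_eq_true, bne'_eq_true, beq_iff] at h
  have := Fact.mk hp
  exact orderOf_eq_prime (by simpa [e, pow_succ] using (a.pwL l).eq a h.2) (a.ne h.1)

variable {K : Subgroup G}

theorem In.mul (a : M.In K A) (b : M.In K B) : M.In K (mx A B) :=
  let ⟨_, c, d⟩ := a
  let ⟨_, e, f⟩ := b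
  ⟨_, K.mul_mem c e, d.mul f⟩

theorem in_getL {T : List ℕ} (h : ∀ A ∈ T, M.In K A) (i : ℕ) : M.In K (getL T II i) :=
  (getL_mem T II i).elim (fun e => e.symm ▸ ⟨1, K.one_mem, one⟩) (h _)

theorem slp_spec {o : List (ℕ × ℕ)} : ∀ {l : List (ℕ × ℕ)} {T : List ℕ}, slp (outs o) l T = true → (∀ A ∈ T, M.In K A) →
    ∀ A ∈ o.map Prod.snd, M.In K A
  | [], T, e, h => List.forall_mem_map.2 fun a ha => beq_iff.1 (allL_eq_true.1 e a ha) ▸ in_getL h _
  | a :: l, T, e, h => by
    have h' : (force (getL T II a.1) fun x => force (getL T II a.2) fun y => force (mx x y) fun c =>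
      slp (outs o) l (c :: T)) = true := e
    simp only [force_eq] at h'
    exact slp_spec h' (List.forall_mem_cons.2 ⟨(in_getL h _).mul (in_getL h _), h⟩)

theorem dvd_of_tsts {T : List ℕ} {bs : List (List ℕ)} {k : ℕ} (e : tsts T A bs k = true) (a : M.In K A)
    (h : ∀ A ∈ T, M.In K A) {p : ℕ} {b : List ℕ} (hp : p.Prime) (hb : b ∈ bs) (f : ex b = p + 1) : p ∣ Nat.card K := by
  obtain ⟨i, j, c⟩ := tsts_spec e b hb
  obtain ⟨y, hy, r⟩ := (a.mul (in_getL h i)).mul (a.mul (in_getL h j))
  exact r.ord hp f c ▸ orderOf_dvd_card_of_mem hy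

def stL (gs : List ℕ) (i S : ℕ) : ℕ := force (getL gs II i) fun a => mx a S

def fpV (v S : ℕ) : ℕ := mx S v

theorem stL_in {gs : List ℕ} (h : ∀ A ∈ gs, M.In K A) (i S : ℕ) (a : M.In K S) : M.In K (stL gs i S) :=
  (congrArg (M.In K) (force_eq (getL gs II i) fun a => mx a S)).mpr ((in_getL h i).mul a)

/-- the cosets of a cyclic subgroup -/
theorem cosets {v m : ℕ} {T : List ℕ} {bs : List (List ℕ)} {l : List (List ℕ × ℕ)} (r : M.R g A) (hg : g ∈ K)
    (hv : mx A v = v) (nd : ndM (Nat.mod (c0 v) m :: keys l) 0 = true)
    (h : ∀ a ∈ l, ∃ S, M.In K S ∧ okS (fpV v) m T bs S a.2 = true) :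
    (l.length + 1) * orderOf g ≤ Nat.card K ∧ (Nat.card K ≤ (l.length + 1) * orderOf g → ∀ H : Subgroup G, g ∈ H →
      (∀ A ∈ T, M.In H A) → ∀ k ∈ H, k ∈ K → k ∈ zpowers g ∨ ∀ b ∈ bs, ∀ p : ℕ, p.Prime → ex b = p + 1 → p ∣ Nat.card H) := by
  have f : ∀ n : ℕ, M.ρ (g ^ n) * toM v = toM v := fun n => by
    induction n with
    | zero => simp
    | succ n ih => rw [pow_succ, map_mul, mul_assoc, r, ← toM_mx, hv, ih]
  have := cover (zpowers_le.2 hg) (fun w => M.ρ w * toM v) (fun w z hz => by
    obtain ⟨n, rfl⟩ := (mem_powers_iff_mem_zpowers.2 hz)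
    simp only [map_mul, mul_assoc, f]) (P := fun w => w = 1 ∨ ∃ S k, M.R w S ∧ tsts T S bs k = true) (ndM_spec nd).1
    (List.forall_mem_cons.2 ⟨⟨1, K.one_mem, ⟨v, by simp, rfl⟩, .inl rfl⟩, List.forall_mem_map.2 fun a ha => by
      obtain ⟨S, ⟨w, b, c⟩, d⟩ := h a ha
      rw [okS, band_eq_true, beq_iff] at d
      exact ⟨w, b, ⟨_, by rw [c, ← toM_mx]; rfl, d.1⟩, .inr ⟨_, _, c, d.2⟩⟩⟩)
  rw [List.length_cons, keys, List.length_map, Nat.card_zpowers] at this
  refine this.imp_right fun t e H gH hT k kH kK => ?_
  obtain ⟨w, a, b⟩ := t e k kK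
  rcases a with rfl | ⟨S, j, c, d⟩
  · exact .inl (by simpa using b)
  · exact .inr fun _ hb p hp q => dvd_of_tsts d ⟨w, by simpa using H.mul_mem kH (H.inv_mem (zpowers_le.2 gH b)), c⟩ hT hp hb q

def stC (gs gi : List ℕ) (i S : ℕ) : ℕ := force (getL gs II i) fun a => force (getL gi II i) fun b => force (mx a S) fun c => mx c b

def Cj (M : FR G) (K : Subgroup G) (t : G) (S : ℕ) : Prop := ∃ w ∈ K, M.R (w * t * w⁻¹) S

theorem stC_cj {gs gi : List ℕ} {t : G} (h : ∀ A ∈ gs, M.In K A) (h' : ∀ A ∈ gi, M.In ⊤ A)
    (e : ∀ i, mx (getL gs II i) (getL gi II i) = II) (i S : ℕ) (a : M.Cj K t S) : M.Cj K t (stC gs gi i S) := by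
  obtain ⟨w, b, c⟩ := a
  obtain ⟨x, d, f⟩ := in_getL h i
  obtain ⟨y, -, j⟩ := in_getL h' i
  obtain rfl := eq_inv_of_mul_eq_one_right ((f.mul j).eq one (e i))
  simp only [stC, force_eq]
  exact ⟨x * w, K.mul_mem d b, by simpa only [mul_inv_rev, mul_assoc] using (f.mul c).mul j⟩

/-- the conjugates of an element -/
theorem conjs {m : ℕ} {T : List ℕ} {bs : List (List ℕ)} {l : List (List ℕ × ℕ)} (r : M.R g A)
    (nd : ndM (Nat.mod (c0 A) m :: keys l) 0 = true) (h : ∀ a ∈ l, ∃ S, M.Cj K g S ∧ okS id m T bs S a.2 = true) :
    (l.length + 1) * Nat.card ↥(K ⊓ 𝒞[g]) ≤ Nat.card K ∧ (Nat.card K ≤ (l.length + 1) * Nat.card ↥(K ⊓ 𝒞[g]) →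
      ∀ H : Subgroup G, g ∈ H → (∀ A ∈ T, M.In H A) → ∀ k ∈ H, k ∈ K → k ∈ 𝒞[g] ∨
        ∀ b ∈ bs, ∀ p : ℕ, p.Prime → ex b = p + 1 → p ∣ Nat.card H) := by
  have f : ∀ w, ∀ z ∈ K ⊓ 𝒞[g], w * z * g * (w * z)⁻¹ = w * g * w⁻¹ := fun w z hz => by
    rw [mul_assoc w, (mem_cent_iff.1 hz.2).eq]; group
  have := cover inf_le_left (fun w => M.ρ (w * g * w⁻¹)) (fun w z hz => congrArg _ (f w z hz))
    (P := fun w => w = 1 ∨ ∃ S k, M.R (w * g * w⁻¹) S ∧ tsts T S bs k = true) (ndM_spec nd).1
    (List.forall_mem_cons.2 ⟨⟨1, K.one_mem, ⟨A, by simpa using r.symm, rfl⟩, .inl rfl⟩, List.forall_mem_map.2 fun a ha => by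
      obtain ⟨S, ⟨w, b, c⟩, d⟩ := h a ha
      rw [okS, band_eq_true, beq_iff] at d
      exact ⟨w, b, ⟨_, c.symm, d.1⟩, .inr ⟨_, _, c, d.2⟩⟩⟩)
  rw [List.length_cons, keys, List.length_map] at this
  refine this.imp_right fun t e H gH hT k kH kK => ?_
  obtain ⟨w, a, b⟩ := t e k kK
  rcases a with rfl | ⟨S, j, c, d⟩
  · exact .inl (by simpa using b.2)
  · refine .inr fun _ hb p hp q => dvd_of_tsts d ⟨_, ?_, c⟩ hT hp hb q
    rw [← f w _ b, mul_inv_cancel_left]
    exact H.mul_mem (H.mul_mem kH gH) (H.inv_mem kH)

end FR

end

theorem realizeEqns_J4xMat : True := by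
  have := @CA.J4x.walk.eq_1
  have := @CA.J4x.walk.eq_def
  have := @CA.J4x.walk.congr_simp
  have := @CA.J4x.FR.Cj.eq_1.{0}
  have := @CA.J4x.FR.Cj.eq_def.{0}
  have := @CA.J4x.FR.Cj.congr_simp.{0}
  have := @CA.J4x.mx.eq_1
  have := @CA.J4x.mx.eq_def
  have := @CA.J4x.mx.congr_simp
  have := @CA.J4x.pwS.eq_1
  have := @CA.J4x.pwS.eq_def
  have := @CA.J4x.pwS.congr_simp
  have := @CA.J4x.keys.eq_1
  have := @CA.J4x.keys.eq_def
  have := @CA.J4x.keys.congr_simp
  have := @CA.J4x.outs.eq_1
  have := @CA.J4x.outs.eq_def
  have := @CA.J4x.outs.congr_simp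
  have := @CA.J4x.FR.fpV.eq_1
  have := @CA.J4x.FR.fpV.eq_def
  have := @CA.J4x.FR.fpV.congr_simp
  have := @CA.J4x.pwL.eq_1
  have := @CA.J4x.pwL.eq_def
  have := @CA.J4x.pwL.congr_simp
  have := @CA.J4x.M112.eq_1
  have := @CA.J4x.M112.eq_def
  have := @CA.J4x.M112.congr_simp
  have := @CA.J4x.FR.stC.eq_1
  have := @CA.J4x.FR.stC.eq_def
  have := @CA.J4x.FR.stC.congr_simp
  have := @CA.J4x.bz.eq_1
  have := @CA.J4x.bz.eq_def
  have := @CA.J4x.bz.congr_simp
  have := @CA.J4x.tsts.eq_1
  have := @CA.J4x.tsts.eq_def
  have := @CA.J4x.tsts.congr_simp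
  have := @CA.J4x.c0.eq_1
  have := @CA.J4x.c0.eq_def
  have := @CA.J4x.c0.congr_simp
  have := @CA.J4x.FR.stL.eq_1
  have := @CA.J4x.FR.stL.eq_def
  have := @CA.J4x.FR.stL.congr_simp
  have := @CA.J4x.ex.eq_1
  have := @CA.J4x.ex.eq_2
  have := @CA.J4x.ex.eq_def
  have := @CA.J4x.ex.congr_simp
  have := @CA.J4x.ordT.eq_1
  have := @CA.J4x.ordT.eq_def
  have := @CA.J4x.ordT.congr_simp
  have := @CA.J4x.slp.eq_1
  have := @CA.J4x.slp.eq_def
  have := @CA.J4x.slp.congr_simp
  have := @CA.J4x.ONES.eq_1
  have := @CA.J4x.ONES.eq_def
  have := @CA.J4x.ONES.congr_simp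
  have := @CA.J4x.FR.In.eq_1.{0}
  have := @CA.J4x.FR.In.eq_def.{0}
  have := @CA.J4x.FR.In.congr_simp.{0}
  have := @CA.J4x.mk.eq_1
  have := @CA.J4x.mk.eq_def
  have := @CA.J4x.mk.congr_simp
  have := @CA.J4x.ones.eq_1
  have := @CA.J4x.ones.eq_2
  have := @CA.J4x.ones.eq_def
  have := @CA.J4x.ones.congr_simp
  have := @CA.J4x.wd.eq_1
  have := @CA.J4x.wd.eq_def
  have := @CA.J4x.wd.congr_simp
  have := @CA.J4x.II.eq_1
  have := @CA.J4x.II.eq_def
  have := @CA.J4x.II.congr_simp
  have := @CA.J4x.FR.R.eq_1.{0}
  have := @CA.J4x.FR.R.eq_def.{0}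
  have := @CA.J4x.FR.R.congr_simp.{0}
  have := @CA.J4x.okS.eq_1
  have := @CA.J4x.okS.eq_def
  have := @CA.J4x.okS.congr_simp
  have := @CA.J4x.toM.eq_1
  have := @CA.J4x.toM.eq_def
  have := @CA.J4x.toM.congr_simp
  have := @CA.J4x.ndM.eq_1
  have := @CA.J4x.ndM.eq_def
  have := @CA.J4x.ndM.congr_simp
  trivial

end CA.J4x
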